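import Mathlib
import Cfsg.Agent.AutPSL.Descent
import Cfsg.Agent.Lib.Forms.Sesq
import Cfsg.Agent.CG26.AutPSp.Basic

/-!
Galois descent for the similarity group of an alternating form (helper60).
-/

set_option autoImplicit false

namespace Cfsg.Agent.AutPSpField

open Matrix Module Cfsg.Agent.Symplectic
open Cfsg.Agent.AutPSL (fieldMap scalarGL normGL normU twistU)

universe u v

variable {m : ℕ} {F : Type u} [Field F]

/-- `g` multiplies the alternating form by `μ`. -/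
def Gram (g : Matrix (Fin m ⊕ Fin m) (Fin m ⊕ Fin m) F) (μ : F) : Prop :=
  gᵀ * Matrix.J (Fin m) F * g = μ • Matrix.J (Fin m) F

theorem form_single (M : Matrix (Fin m ⊕ Fin m) (Fin m ⊕ Fin m) F) (a b : Fin m ⊕ Fin m) :
    (Pi.single a 1 : Fin m ⊕ Fin m → F) ⬝ᵥ (M *ᵥ Pi.single b 1) = M a b := by
  simp [Matrix.mulVec_single]

theorem gram_iff (g : Matrix (Fin m ⊕ Fin m) (Fin m ⊕ Fin m) F) (μ : F) :
    Gram g μ ↔ ∀ u v, sympForm m F (g *ᵥ u) (g *ᵥ v) = μ * sympForm m F u v := by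
  constructor
  · intro h u v
    rw [sympForm_mulVec, h, Matrix.smul_mulVec, dotProduct_smul, smul_eq_mul, sympForm]
  · intro h
    ext a b
    have := h (Pi.single a 1) (Pi.single b 1)
    rw [sympForm_mulVec, form_single, sympForm, form_single] at this
    simpa using this

theorem mem_GSp_iff {g : GL (Fin m ⊕ Fin m) F} :
    g ∈ Cfsg.GSp m F ↔ ∃ μ : Fˣ, Gram (g : Matrix (Fin m ⊕ Fin m) (Fin m ⊕ Fin m) F) μ :=
  exists_congr fun _ => (gram_iff _ _).symm

theorem J_apply_inr_inl (a : Fin m) : Matrix.J (Fin m) F (Sum.inr a) (Sum.inl a) = 1 := by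
  simp [Matrix.J]

theorem Gram.unique (hm : 1 ≤ m) {g : Matrix (Fin m ⊕ Fin m) (Fin m ⊕ Fin m) F} {μ ν : F}
    (h : Gram g μ) (h' : Gram g ν) : μ = ν := by
  have e := congrArg (fun M : Matrix (Fin m ⊕ Fin m) (Fin m ⊕ Fin m) F =>
    M (Sum.inr ⟨0, hm⟩) (Sum.inl ⟨0, hm⟩)) (h.symm.trans h')
  simpa [J_apply_inr_inl] using e

theorem Gram.mul {g h : Matrix (Fin m ⊕ Fin m) (Fin m ⊕ Fin m) F} {μ ν : F} (hg : Gram g μ)
    (hh : Gram h ν) : Gram (g * h) (μ * ν) := by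
  show (g * h)ᵀ * _ * (g * h) = _
  rw [Matrix.transpose_mul, Matrix.mul_assoc, Matrix.mul_assoc, ← Matrix.mul_assoc (Matrix.J _ _),
    ← Matrix.mul_assoc gᵀ, ← Matrix.mul_assoc gᵀ, hg, Matrix.smul_mul, Matrix.mul_smul,
    ← Matrix.mul_assoc, hh, smul_smul]

theorem gram_one : Gram (1 : Matrix (Fin m ⊕ Fin m) (Fin m ⊕ Fin m) F) 1 := by
  simp [Gram]

theorem gram_scalar (c : F) : Gram (c • (1 : Matrix (Fin m ⊕ Fin m) (Fin m ⊕ Fin m) F)) (c * c) := by
  simp [Gram, smul_smul]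

theorem J_map {K : Type v} [Field K] (i : F →+* K) :
    (Matrix.J (Fin m) F).map i = Matrix.J (Fin m) K := by
  ext a b
  rcases a with a | a <;> rcases b with b | b <;> simp [Matrix.J, Matrix.one_apply, apply_ite i]

theorem Gram.map {K : Type v} [Field K] (i : F →+* K) {g : Matrix (Fin m ⊕ Fin m) (Fin m ⊕ Fin m) F}
    {μ : F} (h : Gram g μ) : Gram (g.map i) (i μ) := by
  have e := congrArg (fun M : Matrix (Fin m ⊕ Fin m) (Fin m ⊕ Fin m) F => M.map i) h
  simp only [Matrix.map_mul, J_map] at e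
  show (g.map i)ᵀ * _ * _ = _
  rw [show (g.map i)ᵀ = gᵀ.map i from rfl]
  refine e.trans ?_
  ext a b
  rw [Matrix.map_apply, Matrix.smul_apply, Matrix.smul_apply, ← J_map i, Matrix.map_apply,
    smul_eq_mul, smul_eq_mul, map_mul]

theorem scalarGL_mem (c : Fˣ) : scalarGL (Fin m ⊕ Fin m) c ∈ Cfsg.GSp m F :=
  mem_GSp_iff.2 ⟨c * c, by rw [AutPSL.scalarGL_coe, Units.val_mul]; exact gram_scalar _⟩

theorem fieldMap_mem {g : GL (Fin m ⊕ Fin m) F} (hg : g ∈ Cfsg.GSp m F) (σ : F ≃+* F) :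
    fieldMap σ g ∈ Cfsg.GSp m F := by
  obtain ⟨μ, hμ⟩ := mem_GSp_iff.1 hg
  exact mem_GSp_iff.2 ⟨Units.map (σ : F →* F) μ, by rw [AutPSL.fieldMap_coe]; exact hμ.map σ.toRingHom⟩

/-- Multiplicativity of the multiplier along twisted norms. -/
theorem gram_normGL {g : GL (Fin m ⊕ Fin m) F} {μ : Fˣ}
    (h : Gram (g : Matrix (Fin m ⊕ Fin m) (Fin m ⊕ Fin m) F) μ) (σ : F ≃+* F) (k : ℕ) :
    Gram ((normGL σ g k : GL (Fin m ⊕ Fin m) F) : Matrix (Fin m ⊕ Fin m) (Fin m ⊕ Fin m) F)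
      ((normU σ k μ : Fˣ) : F) := by
  induction k with
  | zero => rw [show normU σ 0 μ = 1 from rfl]; exact gram_one
  | succ k ih =>
    have e : ((normU σ (k + 1) μ : Fˣ) : F) = (μ : F) * σ ((normU σ k μ : Fˣ) : F) := by
      show ((∏ i ∈ Finset.range (k + 1), Units.map ((σ ^ i).toRingHom : F →* F) μ : Fˣ) : F) =
        _ * σ ((∏ i ∈ Finset.range k, Units.map ((σ ^ i).toRingHom : F →* F) μ : Fˣ) : F)
      rw [Finset.prod_range_succ', Units.val_mul, Units.coe_prod, Units.coe_prod, map_prod, mul_comm]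
      congr 1
      refine Finset.prod_congr rfl fun i _ => ?_
      show (σ ^ (i + 1)) (μ : F) = σ ((σ ^ i) (μ : F))
      rw [pow_succ']
      rfl
    rw [e]
    show Gram ((g * fieldMap σ (normGL σ g k) : GL (Fin m ⊕ Fin m) F) :
      Matrix (Fin m ⊕ Fin m) (Fin m ⊕ Fin m) F) _
    rw [Units.val_mul, AutPSL.fieldMap_coe]
    exact h.mul (ih.map σ.toRingHom)

theorem map_mem_iff (hm : 1 ≤ m) {F₀ : Type v} [Field F₀] (i : F₀ →+* F)
    (g : GL (Fin m ⊕ Fin m) F₀) :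
    Matrix.GeneralLinearGroup.map i g ∈ Cfsg.GSp m F ↔ g ∈ Cfsg.GSp m F₀ := by
  constructor
  · intro h
    obtain ⟨μ, hμ⟩ := mem_GSp_iff.1 h
    set G := (g : Matrix (Fin m ⊕ Fin m) (Fin m ⊕ Fin m) F₀)
    set c := (Gᵀ * Matrix.J (Fin m) F₀ * G) (Sum.inr ⟨0, hm⟩) (Sum.inl ⟨0, hm⟩)
    have hG : (Gᵀ * Matrix.J (Fin m) F₀ * G).map i = (μ : F) • Matrix.J (Fin m) F := by
      rw [Matrix.map_mul, Matrix.map_mul, J_map, ← hμ]
      rfl
    have hc : i c = μ := by
      have := congrFun (congrFun hG (Sum.inr ⟨0, hm⟩)) (Sum.inl ⟨0, hm⟩)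
      simpa [J_apply_inr_inl] using this
    have hc0 : c ≠ 0 := fun e => μ.ne_zero (by rw [← hc, e, map_zero])
    refine mem_GSp_iff.2 ⟨Units.mk0 c hc0, Matrix.ext fun a b => i.injective ?_⟩
    have := congrFun (congrFun hG a) b
    rw [Matrix.map_apply] at this
    show i ((Gᵀ * Matrix.J (Fin m) F₀ * G) a b) = _
    rw [this, Matrix.smul_apply, Matrix.smul_apply, smul_eq_mul, smul_eq_mul, map_mul, Units.val_mk0,
      hc, ← J_map i, Matrix.map_apply]
  · intro h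
    obtain ⟨μ, hμ⟩ := mem_GSp_iff.1 h
    exact mem_GSp_iff.2 ⟨Units.map (i : F₀ →* F) μ, hμ.map i⟩

/-- Every non-degenerate alternating form on `F^(2m)` is equivalent to the standard one. -/
theorem exists_basis_J (M : Matrix (Fin m ⊕ Fin m) (Fin m ⊕ Fin m) F)
    (halt : ∀ v : Fin m ⊕ Fin m → F, v ⬝ᵥ (M *ᵥ v) = 0) (hdet : M.det ≠ 0) :
    ∃ k : GL (Fin m ⊕ Fin m) F,
      (k : Matrix (Fin m ⊕ Fin m) (Fin m ⊕ Fin m) F)ᵀ * M *
        (k : Matrix (Fin m ⊕ Fin m) (Fin m ⊕ Fin m) F) = Matrix.J (Fin m) F := by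
  classical
  let B : LinearMap.BilinForm F (Fin m ⊕ Fin m → F) := Matrix.toBilin' M
  have hB : ∀ x y, B x y = x ⬝ᵥ (M *ᵥ y) := fun x y => Matrix.toBilin'_apply' M x y
  have hA : B.IsAlt := fun v => (hB v v).trans (halt v)
  obtain ⟨k, e, f, he, hf, hef, hee, hff, hspan⟩ := Forms.exists_symplectic_family B hA ⊤
    (fun w _ h => by
      refine Matrix.eq_zero_of_vecMul_eq_zero hdet (funext fun j => ?_)
      have := (hB w (Pi.single j 1)).symm.trans (h _ trivial)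
      rwa [Matrix.dotProduct_mulVec, dotProduct_single_one] at this)
  have hk := Forms.finrank_eq_of_symplectic_family B hA ⊤ e f he hf hef hee hff hspan
  rw [finrank_top, Module.finrank_pi, Fintype.card_sum, Fintype.card_fin] at hk
  obtain rfl : m = k := by omega
  let K : Matrix (Fin m ⊕ Fin m) (Fin m ⊕ Fin m) F := (Matrix.of (Sum.elim f e))ᵀ
  have hK : Kᵀ * M * K = Matrix.J (Fin m) F := by
    ext a b
    have hcol : ∀ c, K *ᵥ Pi.single c 1 = Sum.elim f e c := fun c => by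
      rw [Matrix.mulVec_single_one]; rfl
    rw [← form_single (Kᵀ * M * K) a b, ← Matrix.mulVec_mulVec, ← Matrix.mulVec_mulVec,
      Matrix.dotProduct_mulVec _ Kᵀ, Matrix.vecMul_transpose, hcol, hcol, ← hB]
    have hfe : ∀ i j, B (f i) (e j) = if i = j then -1 else 0 := fun i j => by
      rw [← LinearMap.IsAlt.neg hA (e j) (f i), hef]
      by_cases h : i = j <;> simp [h, eq_comm]
    rcases a with a | a <;> rcases b with b | b <;>
      simp [Matrix.J, hff, hee, hfe, hef, Matrix.one_apply, apply_ite (fun x : F => -x)]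
  have hu : IsUnit K.det := by
    refine isUnit_iff_ne_zero.2 fun hz => ?_
    have hJ := congrArg Matrix.det hK
    rw [Matrix.det_mul, hz, mul_zero] at hJ
    have h1 := congrArg Matrix.det (Matrix.J_squared (l := Fin m) (R := F))
    rw [Matrix.det_mul, ← hJ, mul_zero, Matrix.det_neg, Matrix.det_one, mul_one] at h1
    exact pow_ne_zero _ (neg_ne_zero.2 one_ne_zero) h1.symm
  exact ⟨Matrix.GeneralLinearGroup.mk'' K hu, hK⟩

/-- Hilbert 90 for the similarity group. -/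
theorem hilbert90_GSp [Finite F] {σ : F ≃+* F} {g : GL (Fin m ⊕ Fin m) F}
    (hg : g ∈ Cfsg.GSp m F) (hN : normGL σ g (orderOf σ) = 1) :
    ∃ h : GL (Fin m ⊕ Fin m) F, h ∈ Cfsg.GSp m F ∧ g = h * (fieldMap σ h)⁻¹ := by
  classical
  rcases Nat.eq_zero_or_pos m with rfl | hm
  · obtain ⟨h, hh⟩ := AutPSL.hilbert90 σ g hN
    exact ⟨h, mem_GSp_iff.2 ⟨1, Subsingleton.elim _ _⟩, hh⟩
  obtain ⟨μ, hμ⟩ := mem_GSp_iff.1 hg
  have hμN : normU σ (orderOf σ) μ = 1 := by
    have h1 := gram_normGL hμ σ (orderOf σ)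
    rw [hN] at h1
    exact Units.ext (h1.unique hm gram_one)
  obtain ⟨ν, hν⟩ := AutPSL.exists_twist σ μ hμN
  obtain ⟨h, hh⟩ := AutPSL.hilbert90 σ g hN
  set H := (h : Matrix (Fin m ⊕ Fin m) (Fin m ⊕ Fin m) F) with hH
  have hgh : (g : Matrix (Fin m ⊕ Fin m) (Fin m ⊕ Fin m) F) * H.map σ = H := by
    rw [hH, ← AutPSL.fieldMap_coe, ← Units.val_mul, hh, inv_mul_cancel_right]
  set M := Hᵀ * Matrix.J (Fin m) F * H with hM
  have hσM : (μ : F) • M.map σ = M := by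
    rw [hM, Matrix.map_mul, Matrix.map_mul, show (Matrix.J (Fin m) F).map σ = _ from J_map σ.toRingHom]
    conv_rhs => rw [← hgh, Matrix.transpose_mul, Matrix.mul_assoc, Matrix.mul_assoc,
      ← Matrix.mul_assoc (Matrix.J _ _), ← Matrix.mul_assoc (g : Matrix (Fin m ⊕ Fin m) (Fin m ⊕ Fin m) F)ᵀ,
      ← Matrix.mul_assoc (g : Matrix (Fin m ⊕ Fin m) (Fin m ⊕ Fin m) F)ᵀ, hμ, Matrix.smul_mul, Matrix.mul_smul, ← Matrix.mul_assoc]
    rfl
  have hμν : (μ : F) * σ (ν : F) = ν := by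
    rw [hν]
    show ((ν / Units.map (σ.toRingHom : F →* F) ν : Fˣ) : F) * _ = _
    rw [Units.val_div_eq_div_val]
    exact div_mul_cancel₀ _ ((map_ne_zero σ).2 ν.ne_zero)
  let M' := (ν : F)⁻¹ • M
  have hfix : ∀ a b, σ (M' a b) = M' a b := fun a b => by
    have e := congrFun (congrFun hσM a) b
    simp only [M', Matrix.smul_apply, smul_eq_mul, map_mul, map_inv₀, Matrix.map_apply] at e ⊢
    have h1 := μ.ne_zero
    have h2 : σ (ν : F) ≠ 0 := (map_ne_zero σ).2 ν.ne_zero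
    generalize σ (M a b) = x at e ⊢
    rw [← e]
    field_simp
    linear_combination x * hμν.symm
  let L : Subfield F := σ.toRingHom.eqLocusField (RingHom.id F)
  let M₀ : Matrix (Fin m ⊕ Fin m) (Fin m ⊕ Fin m) L := fun a b => ⟨M' a b, hfix a b⟩
  have hM₀ : M₀.map L.subtype = M' := rfl
  have hdet : M₀.det ≠ 0 := fun hz => by
    have e : M'.det = 0 := by
      rw [← hM₀, show M₀.map L.subtype = L.subtype.mapMatrix M₀ from rfl, ← RingHom.map_det, hz, map_zero]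
    simp only [M', hM, Matrix.det_smul, Matrix.det_mul, Matrix.det_transpose, mul_eq_zero,
      pow_eq_zero_iff', inv_eq_zero, Units.ne_zero, false_and, false_or] at e
    rcases e with (e | e) | e
    · exact Matrix.GeneralLinearGroup.det_ne_zero h e
    · exact (Matrix.isUnit_det_J (Fin m) F).ne_zero e
    · exact Matrix.GeneralLinearGroup.det_ne_zero h e
  have halt : ∀ v : Fin m ⊕ Fin m → L, v ⬝ᵥ (M₀ *ᵥ v) = 0 := fun v => by
    apply L.subtype.injective
    rw [map_zero, RingHom.map_dotProduct]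
    rw [show (L.subtype ∘ (M₀ *ᵥ v)) = M' *ᵥ (L.subtype ∘ v) from
      funext fun a => RingHom.map_mulVec L.subtype M₀ v a]
    simp only [M', hM, Matrix.smul_mulVec, dotProduct_smul]
    rw [← sympForm_mulVec, sympForm_self, smul_zero]
  obtain ⟨k, hk⟩ := exists_basis_J M₀ halt hdet
  refine ⟨h * Matrix.GeneralLinearGroup.map L.subtype k, mem_GSp_iff.2 ⟨ν, ?_⟩, ?_⟩
  · have e := congrArg (fun A : Matrix (Fin m ⊕ Fin m) (Fin m ⊕ Fin m) L => A.map L.subtype) hk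
    simp only [Matrix.map_mul, J_map, hM₀, M', Matrix.mul_smul, Matrix.smul_mul] at e
    rw [inv_smul_eq_iff₀ ν.ne_zero] at e
    show (H * (k : Matrix _ _ L).map L.subtype)ᵀ * _ * (H * (k : Matrix _ _ L).map L.subtype) = _
    rw [← e, hM, Matrix.transpose_mul]
    simp only [Matrix.mul_assoc]
    rfl
  · have hkfix : fieldMap σ (Matrix.GeneralLinearGroup.map L.subtype k) =
        Matrix.GeneralLinearGroup.map L.subtype k :=
      Units.ext (Matrix.ext fun a b => by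
        show σ (((k : Matrix (Fin m ⊕ Fin m) (Fin m ⊕ Fin m) L) a b : L) : F) = _
        exact ((k : Matrix (Fin m ⊕ Fin m) (Fin m ⊕ Fin m) L) a b).2)
    rw [map_mul, hkfix, _root_.mul_inv_rev, mul_assoc, mul_inv_cancel_left, ← hh]

end Cfsg.Agent.AutPSpField
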