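import Mathlib
import Cfsg.Agent.AutPSpField.Descent
import Cfsg.Agent.CG26.AutPSp.Count
import Cfsg.Agent.CG26.AutPSp.Main
import Cfsg.Agent.AutPSL.Centralizer
import Cfsg.Agent.AutPSL.Coset
import Cfsg.Agent.AutPSU.Centralizer

/-!
Field automorphisms of `PSp_{2m}(q)`: centralisers, cosets and splitting (helper60).
-/

set_option autoImplicit false

namespace Cfsg.Agent.AutPSpField

open Matrix Cfsg.Agent.Symplectic
open Cfsg.Agent.AutPSL (fieldMap Induced scalarGL normGL normU twistU mem_centralizer_single)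
open Cfsg.Agent.CG26.AutPSp (rho rho_injective normalises)

universe u v

variable {m : ℕ} {F : Type u} [Field F] [Fintype F]

/-- The automorphism of `PSp` is induced by `g σ`. -/
abbrev IsSemi (g : GL (Fin m ⊕ Fin m) F) (σ : F ≃+* F) (β : MulAut (Cfsg.PSp m F)) : Prop :=
  Induced (rho m F) g σ β

theorem isStd_iff (σ : F ≃+* F) (β : MulAut (Cfsg.PSp m F)) :
    Cfsg.IsStdFieldAutPSp σ β ↔ IsSemi 1 σ β := by
  have h1 : ∀ x : GL (Fin m ⊕ Fin m) F, AutPSL.act 1 σ x = fieldMap σ x := fun x => by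
    rw [AutPSL.act_apply, one_mul, inv_one, mul_one]
  constructor
  · intro h s s' hs
    rw [h1] at hs
    exact h s s' (congrArg Units.val hs)
  · intro h s s' hs
    exact h s s' (by rw [h1]; exact Units.ext hs)

variable (m F) in
/-- Conjugation by `GSp` on `PSp`. -/
noncomputable def pgsp : ↥(Cfsg.GSp m F) →* MulAut (Cfsg.PSp m F) where
  toFun g := Classical.choose (AutPSL.exists_induced (S := Sp m F) rho_injective (normalises g.2 1))
  map_one' := Induced.ext (normalises (one_mem _) 1)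
    (Classical.choose_spec (AutPSL.exists_induced (S := Sp m F) rho_injective
      (normalises (one_mem (Cfsg.GSp m F)) 1)))
    (AutPSL.induced_one' rho_injective)
  map_mul' g h := by
    have hc := Induced.comp (normalises h.2 1)
      (Classical.choose_spec (AutPSL.exists_induced (S := Sp m F) rho_injective (normalises g.2 1)))
      (Classical.choose_spec (AutPSL.exists_induced (S := Sp m F) rho_injective (normalises h.2 1)))
    rw [one_mul, AutPSL.fieldMap_one] at hc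
    exact Induced.ext (normalises (mul_mem g.2 h.2) 1) (Classical.choose_spec (AutPSL.exists_induced
      (S := Sp m F) rho_injective (normalises (g * h).2 1))) hc

theorem isSemi_pgsp (g : Cfsg.GSp m F) : IsSemi (g : GL (Fin m ⊕ Fin m) F) 1 (pgsp m F g) :=
  Classical.choose_spec (AutPSL.exists_induced (S := Sp m F) rho_injective (normalises g.2 1))

theorem eq_pgsp {g : GL (Fin m ⊕ Fin m) F} (hg : g ∈ Cfsg.GSp m F) {β : MulAut (Cfsg.PSp m F)}
    (h : IsSemi g 1 β) : β = pgsp m F ⟨g, hg⟩ :=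
  Induced.ext (normalises hg 1) h (isSemi_pgsp ⟨g, hg⟩)

attribute [irreducible] pgsp

theorem mem_inndiag_iff (β : MulAut (Cfsg.PSp m F)) :
    β ∈ Cfsg.inndiagPSp m F ↔ ∃ g, pgsp m F g = β := by
  constructor
  · intro h
    have : Cfsg.inndiagPSp m F ≤ (pgsp m F).range := by
      rw [Cfsg.inndiagPSp, Cfsg.autSubgroupOf, Subgroup.closure_le]
      rintro γ ⟨g, hg, hγ⟩
      exact ⟨⟨g, hg⟩, (eq_pgsp hg ((CG26.AutPSp.induced_iff g 1 γ).1 hγ)).symm⟩
    exact this h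
  · rintro ⟨g, rfl⟩
    exact Subgroup.subset_closure ⟨g, g.2, (CG26.AutPSp.induced_iff _ 1 _).2 (isSemi_pgsp g)⟩

theorem pgsp_range : (pgsp m F).range = Cfsg.inndiagPSp m F :=
  Subgroup.ext fun β => (mem_inndiag_iff β).symm

theorem rho_mem (s : Sp m F) : rho m F s ∈ Cfsg.GSp m F :=
  mem_GSp_iff.2 ⟨1, by
    show (s : Matrix (Fin m ⊕ Fin m) (Fin m ⊕ Fin m) F)ᵀ * _ * (s : Matrix (Fin m ⊕ Fin m) (Fin m ⊕ Fin m) F) = _
    rw [Units.val_one, one_smul, SymplecticGroup.mem_iff'.1 s.2]⟩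

theorem pgsp_rho (s : Sp m F) :
    pgsp m F ⟨rho m F s, rho_mem s⟩ = MulAut.conj (QuotientGroup.mk s : Cfsg.PSp m F) := by
  refine Induced.ext (normalises (rho_mem s) 1) (isSemi_pgsp ⟨_, rho_mem s⟩) fun t t' ht => ?_
  have : t' = s * t * s⁻¹ := by
    apply rho_injective
    rw [ht, AutPSL.act_apply, AutPSL.fieldMap_one, map_mul, map_mul, map_inv]
  rw [this]
  rfl

theorem eq_one (hm : 1 ≤ m) {g : GL (Fin m ⊕ Fin m) F} (hg : g ∈ Cfsg.GSp m F) {σ : F ≃+* F}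
    (h : IsSemi g σ (1 : MulAut (Cfsg.PSp m F))) :
    σ = 1 ∧ ∃ c : Fˣ, g = scalarGL _ c := by
  obtain ⟨h1, c, hc, hgc⟩ := CG26.AutPSp.unique hm hg (one_mem _) h (AutPSL.induced_one' rho_injective)
  refine ⟨h1, Units.mk0 c hc, Units.ext ?_⟩
  rw [AutPSL.scalarGL_coe, hgc]
  rfl

theorem scalar_semi (c : Fˣ) : IsSemi (scalarGL (Fin m ⊕ Fin m) c) 1 (1 : MulAut (Cfsg.PSp m F)) :=
  CG26.AutPSp.induced_smul c.ne_zero
    (by rw [AutPSL.scalarGL_coe, Units.val_one]) (AutPSL.induced_one' rho_injective)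

theorem pgsp_eq_one_iff (hm : 1 ≤ m) {g : Cfsg.GSp m F} :
    pgsp m F g = 1 ↔ ∃ c : Fˣ, (g : GL (Fin m ⊕ Fin m) F) = scalarGL _ c := by
  constructor
  · intro h
    have h2 := isSemi_pgsp g
    rw [h] at h2
    exact (eq_one hm g.2 h2).2
  · rintro ⟨c, hc⟩
    have h2 := scalar_semi (m := m) c
    rw [← hc] at h2
    exact (eq_pgsp g.2 h2).symm

/-- The multiplier. -/
noncomputable def mult (hm : 1 ≤ m) : ↥(Cfsg.GSp m F) →* Fˣ where
  toFun g := Classical.choose (mem_GSp_iff.1 g.2)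
  map_one' := by
    apply Units.ext
    exact (Classical.choose_spec (mem_GSp_iff.1 (one_mem (Cfsg.GSp m F)))).unique hm gram_one
  map_mul' g h := by
    apply Units.ext
    exact (Classical.choose_spec (mem_GSp_iff.1 (g * h).2)).unique hm
      ((Classical.choose_spec (mem_GSp_iff.1 g.2)).mul (Classical.choose_spec (mem_GSp_iff.1 h.2)))

theorem mult_spec (hm : 1 ≤ m) (g : Cfsg.GSp m F) :
    Gram ((g : GL (Fin m ⊕ Fin m) F) : Matrix (Fin m ⊕ Fin m) (Fin m ⊕ Fin m) F) (mult hm g : F) :=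
  Classical.choose_spec (mem_GSp_iff.1 g.2)

theorem mult_scalar (hm : 1 ≤ m) (c : Fˣ) :
    mult hm ⟨scalarGL _ c, scalarGL_mem c⟩ = c ^ 2 := by
  apply Units.ext
  refine (mult_spec hm _).unique hm ?_
  rw [AutPSL.scalarGL_coe, Units.val_pow_eq_pow_val, sq]
  exact gram_scalar _

theorem exists_mult_eq (c : Fˣ) :
    ∃ g : GL (Fin m ⊕ Fin m) F,
      Gram (g : Matrix (Fin m ⊕ Fin m) (Fin m ⊕ Fin m) F) (c : F) ∧
      ∀ σ : F ≃+* F, σ (c : F) = c → fieldMap σ g = g := by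
  let D : Matrix (Fin m ⊕ Fin m) (Fin m ⊕ Fin m) F :=
    Matrix.diagonal (Sum.elim (fun _ => 1) (fun _ => (c : F)))
  have hu : IsUnit D.det := by
    rw [Matrix.det_diagonal]
    refine IsUnit.prod_univ_iff.mpr fun i => ?_
    rcases i with i | i <;> simp
  refine ⟨Matrix.GeneralLinearGroup.mk'' D hu, ?_, fun σ hσ => Units.ext ?_⟩
  · show Dᵀ * Matrix.J (Fin m) F * D = _
    ext a b
    rw [Matrix.diagonal_transpose, Matrix.mul_diagonal, Matrix.diagonal_mul]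
    rcases a with a | a <;> rcases b with b | b <;> simp [Matrix.J, mul_comm]
  · show D.map σ = D
    rw [Matrix.diagonal_map (map_zero σ)]
    congr 1
    funext a
    rcases a with a | a <;> simp [hσ]

theorem inn_eq_map (hm : 1 ≤ m) :
    Cfsg.Inn (Cfsg.PSp m F) =
      (((powMonoidHom 2 : Fˣ →* Fˣ).range).comap (mult hm)).map (pgsp m F) := by
  ext β
  constructor
  · rintro ⟨x, rfl⟩
    obtain ⟨s, rfl⟩ := QuotientGroup.mk_surjective x
    refine ⟨⟨rho m F s, rho_mem s⟩, ⟨1, ?_⟩, pgsp_rho s⟩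
    apply Units.ext
    refine Eq.trans ?_ ((mult_spec hm _).unique hm (μ := _) (ν := (1 : F)) ?_).symm
    · simp
    · show (s : Matrix (Fin m ⊕ Fin m) (Fin m ⊕ Fin m) F)ᵀ * _ * (s : Matrix (Fin m ⊕ Fin m) (Fin m ⊕ Fin m) F) = _
      rw [one_smul, SymplecticGroup.mem_iff'.1 s.2]
  · rintro ⟨g, hg, rfl⟩
    obtain ⟨c, hc⟩ := hg
    rw [powMonoidHom_apply] at hc
    set g' : Cfsg.GSp m F := g * ⟨scalarGL _ c⁻¹, scalarGL_mem _⟩ with hg'
    have hmu : mult hm g' = 1 := by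
      rw [hg', map_mul, mult_scalar, ← hc, inv_pow, mul_inv_cancel]
    have hsp : ((g' : GL (Fin m ⊕ Fin m) F) : Matrix (Fin m ⊕ Fin m) (Fin m ⊕ Fin m) F) ∈
        Matrix.symplecticGroup (Fin m) F := by
      rw [SymplecticGroup.mem_iff']
      have h := mult_spec hm g'
      rw [hmu, Units.val_one, Gram, one_smul] at h
      exact h
    refine ⟨QuotientGroup.mk (⟨_, hsp⟩ : Sp m F), ?_⟩
    rw [← pgsp_rho, show (⟨rho m F ⟨_, hsp⟩, rho_mem _⟩ : Cfsg.GSp m F) = g' from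
      Subtype.ext (Units.ext rfl), hg', map_mul,
      show pgsp m F ⟨scalarGL _ c⁻¹, scalarGL_mem _⟩ = 1 from (pgsp_eq_one_iff hm).2 ⟨_, rfl⟩, mul_one]

theorem conj_inndiag (hm : 2 ≤ m) (α : MulAut (Cfsg.PSp m F)) {d : MulAut (Cfsg.PSp m F)}
    (hd : d ∈ Cfsg.inndiagPSp m F) : α * d * α⁻¹ ∈ Cfsg.inndiagPSp m F := by
  have hm1 : 1 ≤ m := by omega
  by_cases h2 : (2 : F) = 0
  · have hInn : Cfsg.inndiagPSp m F = Cfsg.Inn (Cfsg.PSp m F) := by
      have hchar : ringChar F = 2 :=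
        haveI : CharP F 2 := CharTwo.of_one_ne_zero_of_two_eq_zero one_ne_zero h2
        ringChar.eq F 2
      rw [inn_eq_map hm1, ← pgsp_range, MonoidHom.range_eq_map]
      congr 1
      refine (eq_top_iff.2 fun g _ => ?_).symm
      obtain ⟨b, hb⟩ := FiniteField.isSquare_of_char_two hchar ((mult hm1 g : Fˣ) : F)
      have hb0 : b ≠ 0 := fun e => (mult hm1 g).ne_zero (by rw [hb, e, mul_zero])
      exact ⟨Units.mk0 b hb0, Units.ext (by simp [hb, sq])⟩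
    rw [hInn] at hd ⊢
    exact AutPSL.inn_conj α d hd
  · obtain ⟨k, rfl⟩ := (mem_inndiag_iff d).1 hd
    obtain ⟨g, σ, hg, hα⟩ := CG26.AutPSp.exists_semi hm (fun _ => h2) α
    have hN := normalises (m := m) hg σ
    have hi := Induced.inverse rho_injective hN hα
    have hgi : fieldMap σ⁻¹ g⁻¹ ∈ Cfsg.GSp m F := fieldMap_mem (inv_mem hg) _
    have hmem : g * fieldMap σ (k : GL (Fin m ⊕ Fin m) F) ∈ Cfsg.GSp m F :=
      mul_mem hg (fieldMap_mem k.2 σ)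
    have h1 := Induced.comp (normalises hgi σ⁻¹)
      (Induced.comp (normalises k.2 1) hα (isSemi_pgsp k)) hi
    rw [mul_one, mul_inv_cancel] at h1
    exact (mem_inndiag_iff _).2 ⟨_, (eq_pgsp (mul_mem hmem (fieldMap_mem hgi σ)) h1).symm⟩

theorem IsSemi.pow {g : GL (Fin m ⊕ Fin m) F} (hg : g ∈ Cfsg.GSp m F) {σ : F ≃+* F}
    {β : MulAut (Cfsg.PSp m F)} (h : IsSemi g σ β) (k : ℕ) :
    normGL σ g k ∈ Cfsg.GSp m F ∧ IsSemi (normGL σ g k) (σ ^ k) (β ^ k) := by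
  induction k with
  | zero => exact ⟨one_mem _, by rw [pow_zero, pow_zero]; exact AutPSL.induced_one' rho_injective⟩
  | succ k ih =>
    refine ⟨mul_mem hg (fieldMap_mem ih.1 σ), ?_⟩
    rw [pow_succ', pow_succ']
    exact Induced.comp (normalises ih.1 _) h ih.2

theorem orderOf_std (hm : 1 ≤ m) {σ : F ≃+* F} {φ : MulAut (Cfsg.PSp m F)} (h : IsSemi 1 σ φ) :
    orderOf φ = orderOf σ := by
  have hN : ∀ k, normGL σ (1 : GL (Fin m ⊕ Fin m) F) k = 1 := fun k => by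
    induction k with
    | zero => rfl
    | succ k ih => show 1 * fieldMap σ (normGL σ 1 k) = 1; rw [ih, map_one, one_mul]
  apply Nat.dvd_antisymm <;> apply orderOf_dvd_of_pow_eq_one
  · have h1 := (IsSemi.pow (one_mem _) h (orderOf σ)).2
    rw [pow_orderOf_eq_one, hN] at h1
    exact Induced.ext AutPSL.normalises_one h1 (AutPSL.induced_one' rho_injective)
  · have h1 := (IsSemi.pow (one_mem _) h (orderOf φ)).2
    rw [pow_orderOf_eq_one, hN] at h1
    exact (eq_one hm (one_mem _) h1).1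

theorem semi_comm_pgsp {σ : F ≃+* F} {φ : MulAut (Cfsg.PSp m F)} (hφ : IsSemi 1 σ φ)
    (g : Cfsg.GSp m F) :
    φ * pgsp m F g =
      pgsp m F ⟨fieldMap σ (g : GL (Fin m ⊕ Fin m) F), fieldMap_mem g.2 σ⟩ * φ := by
  have hg' : fieldMap σ (g : GL (Fin m ⊕ Fin m) F) ∈ Cfsg.GSp m F := fieldMap_mem g.2 σ
  have h1 := Induced.comp (normalises g.2 1) hφ (isSemi_pgsp g)
  rw [one_mul, mul_one] at h1
  have h2 := Induced.comp (normalises (one_mem (Cfsg.GSp m F)) σ) (isSemi_pgsp ⟨_, hg'⟩) hφ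
  rw [map_one, mul_one, one_mul] at h2
  exact Induced.ext (normalises hg' σ) h1 h2

theorem comm_field_iff (hm : 1 ≤ m) {σ : F ≃+* F} {φ : MulAut (Cfsg.PSp m F)} (hφ : IsSemi 1 σ φ)
    (g : Cfsg.GSp m F) :
    pgsp m F g ∈ Subgroup.centralizer ({φ} : Set _) ↔
      ∃ (g₀ : Cfsg.GSp m F) (d : Fˣ), fieldMap σ (g₀ : GL (Fin m ⊕ Fin m) F) = g₀ ∧
        g = g₀ * ⟨scalarGL _ d, scalarGL_mem d⟩ := by
  haveI : Nonempty (Fin m ⊕ Fin m) := ⟨Sum.inl ⟨0, by omega⟩⟩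
  rw [mem_centralizer_single, semi_comm_pgsp hφ, mul_left_inj]
  constructor
  · intro hc
    have h1 : pgsp m F (g⁻¹ * ⟨fieldMap σ g, fieldMap_mem g.2 σ⟩) = 1 := by
      rw [map_mul, map_inv, hc, inv_mul_cancel]
    obtain ⟨c, hcs⟩ := (pgsp_eq_one_iff hm).1 h1
    have hσg : fieldMap σ (g : GL (Fin m ⊕ Fin m) F) = (g : GL (Fin m ⊕ Fin m) F) * scalarGL _ c := by
      rw [← hcs]
      exact (mul_inv_cancel_left _ _).symm
    have hit : ∀ k : ℕ, fieldMap (σ ^ k) (g : GL (Fin m ⊕ Fin m) F) =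
        (g : GL (Fin m ⊕ Fin m) F) * scalarGL _ (normU σ k c) := by
      intro k
      induction k with
      | zero => rw [pow_zero, AutPSL.fieldMap_one, show normU σ 0 c = 1 from rfl]; simp
      | succ k ih =>
        rw [pow_succ, AutPSL.fieldMap_mul, hσg, map_mul, ih, AutPSL.fieldMap_scalarGL, mul_assoc,
          ← map_mul]
        congr 2
        exact (Finset.prod_range_succ (fun j => Units.map ((σ ^ j).toRingHom : F →* F) c) k).symm
    have hN : normU σ (orderOf σ) c = 1 := by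
      have h2 := hit (orderOf σ)
      rw [pow_orderOf_eq_one, AutPSL.fieldMap_one, eq_comm, mul_eq_left] at h2
      exact AutPSL.scalarGL_injective (h2.trans (map_one _).symm)
    obtain ⟨d, hd⟩ := AutPSL.exists_twist σ c hN
    refine ⟨g * ⟨scalarGL _ d, scalarGL_mem d⟩, d⁻¹, ?_, Subtype.ext ?_⟩
    · rw [Subgroup.coe_mul, map_mul, hσg, AutPSL.fieldMap_scalarGL, mul_assoc, ← map_mul, hd]
      congr 2
      exact div_mul_cancel d _
    · rw [Subgroup.coe_mul, Subgroup.coe_mul, mul_assoc, ← map_mul, mul_inv_cancel]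
      exact ((congrArg ((g : GL (Fin m ⊕ Fin m) F) * ·) (map_one _)).trans (mul_one _)).symm
  · rintro ⟨g₀, d, hg₀, hg⟩
    refine inv_mul_eq_one.1 ?_ |>.symm
    rw [← map_inv, ← map_mul, pgsp_eq_one_iff hm]
    refine ⟨Units.map (σ.toRingHom : F →* F) d / d, ?_⟩
    show ((g : GL (Fin m ⊕ Fin m) F))⁻¹ * fieldMap σ (g : GL (Fin m ⊕ Fin m) F) = _
    rw [inv_mul_eq_iff_eq_mul, hg, Subgroup.coe_mul, map_mul, hg₀, AutPSL.fieldMap_scalarGL,
      mul_assoc, ← map_mul]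
    congr 2
    exact (mul_div_cancel d _).symm

variable {σ : F ≃+* F}

theorem exists_centralizer_equiv (hm : 1 ≤ m) {φ : MulAut (Cfsg.PSp m F)} (hφ : IsSemi 1 σ φ)
    {F₀ : Type v} [Field F₀] [Fintype F₀] (i : F₀ →+* F) (hi : ∀ x : F, σ x = x ↔ ∃ y, i y = x) :
    Nonempty (↥(Cfsg.inndiagPSp m F ⊓ Subgroup.centralizer {φ}) ≃* Cfsg.PGSp m F₀) := by
  classical
  haveI : Nonempty (Fin m ⊕ Fin m) := ⟨Sum.inl ⟨0, by omega⟩⟩
  have hfix : ∀ g : GL (Fin m ⊕ Fin m) F₀,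
      fieldMap σ (Matrix.GeneralLinearGroup.map i g) = Matrix.GeneralLinearGroup.map i g := fun g => by
    apply Units.ext
    ext a b
    exact (hi _).mpr ⟨_, rfl⟩
  let Ψ : ↥(Cfsg.GSp m F₀) →* ↥(Cfsg.GSp m F) :=
    ((Matrix.GeneralLinearGroup.map i).comp (Cfsg.GSp m F₀).subtype).codRestrict _
      fun g => (map_mem_iff hm i _).2 g.2
  let Φ : ↥(Cfsg.GSp m F₀) →* ↥(Cfsg.inndiagPSp m F ⊓ Subgroup.centralizer {φ}) :=
    ((pgsp m F).comp Ψ).codRestrict _ fun g =>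
      ⟨(mem_inndiag_iff _).2 ⟨_, rfl⟩, (comm_field_iff hm hφ _).mpr ⟨Ψ g, 1, hfix _, by
        rw [show (⟨scalarGL _ (1 : Fˣ), scalarGL_mem 1⟩ : Cfsg.GSp m F) = 1 from
          Subtype.ext (map_one _), mul_one]⟩⟩
  have hsurj : Function.Surjective Φ := by
    rintro ⟨β, hβ, hc⟩
    obtain ⟨g, rfl⟩ := (mem_inndiag_iff β).1 hβ
    obtain ⟨g₀, d, hg₀, hg⟩ := (comm_field_iff hm hφ g).mp hc
    have hentry : ∀ a b, ∃ y, i y = ((g₀ : GL (Fin m ⊕ Fin m) F) : Matrix (Fin m ⊕ Fin m) (Fin m ⊕ Fin m) F) a b := fun a b =>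
      (hi _).mp (congrArg (fun g : GL (Fin m ⊕ Fin m) F => (g : Matrix (Fin m ⊕ Fin m) (Fin m ⊕ Fin m) F) a b) hg₀)
    choose M hM using hentry
    have hMd : (Matrix.of M).map i = ((g₀ : GL (Fin m ⊕ Fin m) F) : Matrix (Fin m ⊕ Fin m) (Fin m ⊕ Fin m) F) := Matrix.ext hM
    have hu : IsUnit (Matrix.of M).det := by
      refine isUnit_iff_ne_zero.mpr fun hz => ?_
      have h2 : ((Matrix.of M).map i).det = 0 := by
        rw [show (Matrix.of M).map i = i.mapMatrix (Matrix.of M) from rfl, ← RingHom.map_det, hz, map_zero]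
      rw [hMd] at h2
      exact Matrix.GeneralLinearGroup.det_ne_zero _ h2
    have hmap : Matrix.GeneralLinearGroup.map i (Matrix.GeneralLinearGroup.mk'' _ hu) =
        (g₀ : GL (Fin m ⊕ Fin m) F) := Units.ext hMd
    refine ⟨⟨Matrix.GeneralLinearGroup.mk'' _ hu,
      (map_mem_iff hm i _).1 (hmap ▸ g₀.2)⟩, Subtype.ext ?_⟩
    show pgsp m F (Ψ _) = pgsp m F g
    rw [hg, map_mul, show pgsp m F ⟨scalarGL _ d, scalarGL_mem d⟩ = 1 from
      (pgsp_eq_one_iff hm).2 ⟨d, rfl⟩, mul_one]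
    exact congrArg _ (Subtype.ext hmap)
  have hker : Φ.ker = (Cfsg.Geo.scalars (Fin m ⊕ Fin m) F₀).subgroupOf (Cfsg.GSp m F₀) := by
    ext g
    rw [MonoidHom.mem_ker, Subgroup.mem_subgroupOf, Cfsg.Geo.mem_scalars_iff]
    constructor
    · intro h
      obtain ⟨c, hc⟩ := (pgsp_eq_one_iff hm).1 (congrArg Subtype.val h)
      change Matrix.GeneralLinearGroup.map i (g : GL (Fin m ⊕ Fin m) F₀) = scalarGL _ c at hc
      have hc0 : σ (c : F) = c := by
        have h5 := hfix (g : GL (Fin m ⊕ Fin m) F₀)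
        rw [hc, AutPSL.fieldMap_scalarGL] at h5
        exact congrArg Units.val (AutPSL.scalarGL_injective h5)
      obtain ⟨y, hy⟩ := (hi _).mp hc0
      have hy0 : y ≠ 0 := by rintro rfl; exact c.ne_zero (hy ▸ map_zero i)
      refine ⟨Units.mk0 y hy0, Matrix.ext fun a b => i.injective ?_⟩
      have h6 := congrArg (fun g : GL (Fin m ⊕ Fin m) F => (g : Matrix (Fin m ⊕ Fin m) (Fin m ⊕ Fin m) F) a b) hc
      simp only [AutPSL.scalarGL_coe] at h6
      refine (h6 : i _ = _).trans ?_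
      by_cases hab : a = b <;> simp [hab, hy]
    · rintro ⟨c, hc⟩
      apply Subtype.ext
      refine (pgsp_eq_one_iff hm).2 ⟨Units.map (i : F₀ →* F) c, Units.ext ?_⟩
      show ((g : GL (Fin m ⊕ Fin m) F₀) : Matrix (Fin m ⊕ Fin m) (Fin m ⊕ Fin m) F₀).map i = _
      rw [hc, AutPSL.scalarGL_coe]
      ext a b
      by_cases hab : a = b <;> simp [hab]
  exact ⟨((QuotientGroup.quotientMulEquivOfEq hker.symm).trans
    (QuotientGroup.quotientKerEquivOfSurjective Φ hsurj)).symm⟩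

theorem field_coset (hm : 1 ≤ m) {φ δ : MulAut (Cfsg.PSp m F)} (hφ : IsSemi 1 σ φ)
    (hδ : δ ∈ Cfsg.inndiagPSp m F) (ho : orderOf (δ * φ) = orderOf σ) :
    Cfsg.IsConjUnder (Cfsg.inndiagPSp m F) φ (δ * φ) := by
  haveI : Nonempty (Fin m ⊕ Fin m) := ⟨Sum.inl ⟨0, by omega⟩⟩
  obtain ⟨g, rfl⟩ := (mem_inndiag_iff δ).1 hδ
  have hgφ := Induced.comp (normalises (one_mem (Cfsg.GSp m F)) σ) (isSemi_pgsp g) hφ
  rw [map_one, mul_one, one_mul] at hgφ
  obtain ⟨hNU, hp⟩ := IsSemi.pow g.2 hgφ (orderOf σ)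
  have hpw : (pgsp m F g * φ) ^ orderOf σ = 1 := by rw [← ho, pow_orderOf_eq_one]
  rw [hpw, pow_orderOf_eq_one σ] at hp
  obtain ⟨-, u, hu⟩ := eq_one hm hNU hp
  have hfix : σ (u : F) = u := by
    have h1 := AutPSL.normGL_fixed σ (g : GL (Fin m ⊕ Fin m) F) (pow_orderOf_eq_one σ)
    rw [hu, AutPSL.fieldMap_scalarGL, AutPSL.scalarGL_mul_comm u] at h1
    exact congrArg Units.val (AutPSL.scalarGL_injective (mul_left_cancel h1))
  obtain ⟨d, hd⟩ := AutPSL.exists_norm_eq σ u⁻¹ (by rw [Units.val_inv_eq_inv_val, map_inv₀, hfix])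
  obtain ⟨h, hh, hgh⟩ := hilbert90_GSp (σ := σ)
    (g := (g : GL (Fin m ⊕ Fin m) F) * scalarGL _ d) (mul_mem g.2 (scalarGL_mem d)) (by
    rw [AutPSL.normGL_scalar, hu, AutPSL.normGL_scalarGL, hd, ← map_mul, mul_inv_cancel]; exact map_one _)
  have hinv1 : pgsp m F ⟨scalarGL _ d, scalarGL_mem d⟩ = 1 := (pgsp_eq_one_iff hm).2 ⟨d, rfl⟩
  refine ⟨pgsp m F ⟨h, hh⟩, (mem_inndiag_iff _).2 ⟨_, rfl⟩, ?_⟩
  have e : g * ⟨scalarGL _ d, scalarGL_mem d⟩ =
      (⟨h, hh⟩ : Cfsg.GSp m F) * ⟨fieldMap σ h⁻¹, fieldMap_mem (inv_mem hh) σ⟩ :=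
    Subtype.ext (by
      show (g : GL (Fin m ⊕ Fin m) F) * scalarGL _ d = h * fieldMap σ h⁻¹
      rw [map_inv]; exact hgh)
  have e2 := congrArg (pgsp m F) e
  rw [map_mul, map_mul, hinv1, mul_one] at e2
  rw [e2, mul_assoc, mul_assoc]
  congr 1
  have h3 := semi_comm_pgsp hφ (⟨h, hh⟩⁻¹ : Cfsg.GSp m F)
  rw [map_inv] at h3
  exact h3.symm

theorem splitClassCount_field (hm : 1 ≤ m) {φ : MulAut (Cfsg.PSp m F)} (hφ : IsSemi 1 σ φ) :
    Cfsg.splitClassCount (Cfsg.inndiagPSp m F) (Cfsg.Inn (Cfsg.PSp m F)) φ =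
      Nat.gcd 2 (twistU σ).ker.index := by
  rw [inn_eq_map hm, ← pgsp_range, ← AutPSL.index_sup_powMonoidHom]
  refine (AutPSU.splitClassCount_mod (pgsp m F) (mult hm) _ (fun c => ?_) ?_ φ).trans ?_
  · obtain ⟨g, hg, -⟩ := exists_mult_eq (m := m) c
    exact ⟨⟨g, mem_GSp_iff.2 ⟨c, hg⟩⟩, Units.ext ((mult_spec hm _).unique hm hg)⟩
  · intro g hg
    obtain ⟨c, hc⟩ := (pgsp_eq_one_iff hm).1 (MonoidHom.mem_ker.1 hg)
    obtain rfl : g = ⟨scalarGL _ c, scalarGL_mem c⟩ := Subtype.ext hc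
    exact ⟨c, (mult_scalar hm c).symm⟩
  congr 1
  apply le_antisymm
  · refine sup_le ?_ le_sup_right
    rintro _ ⟨g, hg, rfl⟩
    obtain ⟨g₀, d, hg₀, rfl⟩ := (comm_field_iff hm hφ g).mp hg
    rw [map_mul, mult_scalar]
    refine Subgroup.mul_mem_sup ((AutPSL.mem_ker_twistU σ _).mpr ?_) ⟨d, rfl⟩
    have h1 := (mult_spec hm g₀).map σ.toRingHom
    have hcoe : ((g₀ : GL (Fin m ⊕ Fin m) F) : Matrix (Fin m ⊕ Fin m) (Fin m ⊕ Fin m) F).map σ =
        ((g₀ : GL (Fin m ⊕ Fin m) F) : Matrix (Fin m ⊕ Fin m) (Fin m ⊕ Fin m) F) := by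
      rw [← AutPSL.fieldMap_coe, hg₀]
    rw [show (((g₀ : GL (Fin m ⊕ Fin m) F) : Matrix (Fin m ⊕ Fin m) (Fin m ⊕ Fin m) F).map σ.toRingHom) =
      ((g₀ : GL (Fin m ⊕ Fin m) F) : Matrix (Fin m ⊕ Fin m) (Fin m ⊕ Fin m) F).map σ from rfl, hcoe] at h1
    exact h1.unique hm (mult_spec hm g₀)
  · refine sup_le ?_ le_sup_right
    refine fun c hc => Subgroup.mem_sup_left ?_
    obtain ⟨g, hg, hfixg⟩ := exists_mult_eq (m := m) c
    have hmem : g ∈ Cfsg.GSp m F := mem_GSp_iff.2 ⟨c, hg⟩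
    refine ⟨⟨g, hmem⟩, (comm_field_iff hm hφ _).mpr ⟨⟨g, hmem⟩, 1,
      hfixg σ ((AutPSL.mem_ker_twistU σ c).1 hc), ?_⟩, Units.ext ((mult_spec hm _).unique hm hg)⟩
    rw [show (⟨scalarGL _ (1 : Fˣ), scalarGL_mem 1⟩ : Cfsg.GSp m F) = 1 from
      Subtype.ext (map_one _), mul_one]

omit [Fintype F] in
/-- The parity of the index of the multiplicative group of a subfield. -/
theorem gcd_two_div {p f r : ℕ} (hp : p.Prime) (hr : r ∣ f) (hf : 1 ≤ f) :
    Nat.gcd 2 ((p ^ f - 1) / (p ^ (f / r) - 1)) = Nat.gcd (Nat.gcd 2 (p ^ f - 1)) r := by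
  have hr0 : r ≠ 0 := by rintro rfl; simp at hr; omega
  have hk : 1 ≤ f / r := Nat.div_pos (Nat.le_of_dvd hf hr) (Nat.pos_of_ne_zero hr0)
  have h2 : 2 ≤ p ^ (f / r) := le_trans hp.two_le (Nat.le_self_pow (by omega) p)
  set Q := p ^ (f / r) with hQ
  have hpf : p ^ f = Q ^ r := by rw [hQ, ← pow_mul, Nat.div_mul_cancel hr]
  rw [hpf]
  have hdiv : (Q ^ r - 1) / (Q - 1) = ∑ i ∈ Finset.range r, Q ^ i := (Nat.geomSum_eq h2 r).symm
  rw [hdiv]
  have hg : ∀ a : ℕ, Nat.gcd 2 a = if a % 2 = 0 then 2 else 1 := fun a => by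
    rw [Nat.gcd_rec]
    rcases Nat.mod_two_eq_zero_or_one a with h | h <;> simp [h]
  rcases Nat.even_or_odd Q with hev | hodd
  · have h1 : (∑ i ∈ Finset.range r, Q ^ i) % 2 = 1 := by
      obtain ⟨r', rfl⟩ := Nat.exists_eq_succ_of_ne_zero hr0
      rw [Finset.sum_range_succ', Nat.add_mod, Finset.sum_nat_mod]
      simp [Nat.pow_mod, Nat.even_iff.1 hev]
    have h3 : (Q ^ r - 1) % 2 = 1 := by
      have := Nat.even_iff.1 ((Nat.even_pow' hr0).2 hev)
      have := Nat.one_le_pow r Q (by omega)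
      omega
    rw [hg, hg, h1, h3]
    simp
  · have h1 : (∑ i ∈ Finset.range r, Q ^ i) % 2 = r % 2 := by
      rw [Finset.sum_nat_mod]
      simp [Nat.pow_mod, Nat.odd_iff.1 hodd]
    have h3 : (Q ^ r - 1) % 2 = 0 := by
      have := Nat.odd_iff.1 (Odd.pow hodd : Odd (Q ^ r))
      omega
    rw [hg, hg, h1, h3, if_pos rfl, hg]

end Cfsg.Agent.AutPSpField
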