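import Mathlib
import Cfsg.Agent.AutPSpField.Centralizer

/-!
Field automorphisms of `PSp_{2m}(q)` of prime order (helper60).
-/

set_option autoImplicit false

namespace Cfsg.Agent.AutPSpField

universe u v

variable {m : ℕ} {F : Type u} [Field F] [Fintype F]

theorem field_class {p f : ℕ} (hp : p.Prime) (hF : Fintype.card F = p ^ f) (hf : 1 ≤ f) (hm : 2 ≤ m)
    (x : MulAut (Cfsg.PSp m F)) (hx : Cfsg.IsFieldAutClassPSp x) {r : ℕ} (hxr : orderOf x = r)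
    (F₀ : Type v) [Field F₀] [Fintype F₀] (hF₀ : Fintype.card F₀ = p ^ (f / r)) :
    r ∣ f ∧ Nonempty (↥(Cfsg.inndiagPSp m F ⊓ Subgroup.centralizer {x}) ≃* Cfsg.PGSp m F₀) ∧
      Cfsg.splitClassCount (Cfsg.inndiagPSp m F) (Cfsg.Inn (Cfsg.PSp m F)) x =
        Nat.gcd (Nat.gcd 2 (p ^ f - 1)) r := by
  have hm1 : 1 ≤ m := by omega
  obtain ⟨α, σ, -, hφ⟩ := hx
  have hφ' := (isStd_iff σ _).1 hφ
  have hσ : orderOf σ = r := by rw [← orderOf_std hm1 hφ', AutPSL.orderOf_conj', hxr]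
  obtain ⟨hrf, hfix⟩ := AutPSL.card_fixed_eq hσ hp hF hf
  obtain ⟨i, hi⟩ := AutPSL.exists_fixed_embedding σ F₀ (hF₀.trans hfix.symm)
  obtain ⟨e2⟩ := exists_centralizer_equiv hm1 hφ' i hi
  have h3 := splitClassCount_field hm1 hφ'
  have hH : ∀ α : MulAut (Cfsg.PSp m F), ∀ d ∈ Cfsg.inndiagPSp m F,
      α * d * α⁻¹ ∈ Cfsg.inndiagPSp m F := fun α d hd => conj_inndiag hm α hd
  obtain ⟨e⟩ := AutPSL.centralizer_conj_equiv (Cfsg.inndiagPSp m F) hH α x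
  rw [AutPSL.splitClassCount_conj (X := MulAut (Cfsg.PSp m F)) _ _ hH
    (fun α d hd => AutPSL.inn_conj α d hd)] at h3
  refine ⟨hrf, ⟨e.trans e2⟩, h3.trans ?_⟩
  rw [← gcd_two_div hp hrf hf]
  congr 1
  have h1 := Subgroup.card_mul_index (AutPSL.twistU σ).ker
  rw [AutPSL.card_ker_twist, hfix, AutPSL.card_units_eq (p ^ f) hF] at h1
  have hr0 : r ≠ 0 := by rintro rfl; simp at hrf; omega
  have h2 : 1 ≤ f / r := Nat.div_pos (Nat.le_of_dvd hf hrf) (Nat.pos_of_ne_zero hr0)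
  have h4 : 2 ≤ p ^ (f / r) := le_trans hp.two_le (Nat.le_self_pow (by omega) p)
  rw [← h1, Nat.mul_div_cancel_left _ (by omega)]

theorem coset_order_iff (hm : 2 ≤ m) (x δ : MulAut (Cfsg.PSp m F)) (hx : Cfsg.IsFieldAutClassPSp x)
    {r : ℕ} (hxr : orderOf x = r) (hδ : δ ∈ Cfsg.inndiagPSp m F) :
    orderOf (δ * x) = r ↔ Cfsg.IsConjUnder (Cfsg.inndiagPSp m F) x (δ * x) := by
  refine ⟨fun ho => ?_, fun ⟨h, _, he⟩ => by rw [he, AutPSL.orderOf_conj', hxr]⟩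
  have hm1 : 1 ≤ m := by omega
  obtain ⟨α, σ, -, hφ⟩ := hx
  have hφ' := (isStd_iff σ _).1 hφ
  have hH : ∀ α : MulAut (Cfsg.PSp m F), ∀ d ∈ Cfsg.inndiagPSp m F,
      α * d * α⁻¹ ∈ Cfsg.inndiagPSp m F := fun α d hd => conj_inndiag hm α hd
  rw [AutPSL.isConjUnder_conj_iff hH α]
  have hsplit : α * (δ * x) * α⁻¹ = (α * δ * α⁻¹) * (α * x * α⁻¹) := by group
  rw [hsplit]
  apply field_coset hm1 hφ' (hH α δ hδ)
  rw [← hsplit, AutPSL.orderOf_conj', ho, ← orderOf_std hm1 hφ', AutPSL.orderOf_conj', hxr]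

end Cfsg.Agent.AutPSpField
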